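import Mathlib
import Groth.Prelude.Def_KZero

/-!
# Basic lemmas on `KZero.K0tr` (helper16)
-/

set_option autoImplicit false
universe v u

namespace Groth.Agent.Lib.Helper16

namespace K0Db

open CategoryTheory CategoryTheory.Limits Pretriangulated ZeroObject

variable {D : Type u} [Category.{v} D] [Preadditive D] [HasZeroObject D] [HasShift D ℤ]
  [∀ n : ℤ, (shiftFunctor D n).Additive] [Pretriangulated D] (Q : ObjectProperty D)

/-- the class of an object with an explicit membership proof -/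
def clQ (X : D) (h : Q X) : KZero.K0tr Q :=
  QuotientAddGroup.mk (FreeAbelianGroup.of ⟨X, h⟩)

lemma clTr_eq {X : D} (h : Q X) : KZero.clTr Q X = clQ Q X h := by
  unfold KZero.clTr
  rw [dif_pos h]
  rfl

variable {Q}

lemma clQ_triangle (T : Triangle D) (hT : T ∈ distTriang D) (h₁ : Q T.obj₁) (h₂ : Q T.obj₂)
    (h₃ : Q T.obj₃) : clQ Q T.obj₂ h₂ = clQ Q T.obj₁ h₁ + clQ Q T.obj₃ h₃ := by
  have h : FreeAbelianGroup.of (⟨T.obj₂, h₂⟩ : Subtype Q) - FreeAbelianGroup.of ⟨T.obj₁, h₁⟩ -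
      FreeAbelianGroup.of ⟨T.obj₃, h₃⟩ ∈ KZero.relTr Q :=
    AddSubgroup.subset_closure ⟨T, h₁, h₂, h₃, hT, rfl⟩
  have h2 := (QuotientAddGroup.eq_zero_iff _).mpr h
  rw [QuotientAddGroup.mk_sub, QuotientAddGroup.mk_sub, sub_sub, sub_eq_zero] at h2
  exact h2

lemma clQ_of_isZero {Z : D} (hZ : IsZero Z) (h : Q Z) : clQ Q Z h = 0 := by
  have hT : Triangle.mk (𝟙 Z) (0 : Z ⟶ Z) 0 ∈ distTriang D := by
    refine isomorphic_distinguished _ (contractible_distinguished Z) _ ?_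
    exact Triangle.isoMk _ _ (Iso.refl _) (Iso.refl _) (hZ.iso (isZero_zero D))
      (hZ.eq_of_src _ _) (hZ.eq_of_src _ _) (hZ.eq_of_src _ _)
  have := clQ_triangle _ hT h h h
  simpa using this

lemma clQ_iso (hQ0 : ∀ Z : D, IsZero Z → Q Z) {X Y : D} (e : X ≅ Y) (hX : Q X) (hY : Q Y) :
    clQ Q X hX = clQ Q Y hY := by
  obtain ⟨Z, g, h, hT⟩ := distinguished_cocone_triangle e.hom
  have hZ : IsZero Z := (Triangle.isZero₃_iff_isIso₁ _ hT).2 (inferInstanceAs (IsIso e.hom))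
  have h1 := clQ_triangle (Triangle.mk e.hom g h) hT hX hY (hQ0 Z hZ)
  have h3 : clQ Q (Triangle.mk e.hom g h).obj₃ (hQ0 Z hZ) = 0 := clQ_of_isZero hZ _
  rw [h3, add_zero] at h1
  exact h1.symm

lemma clQ_shift (hQ0 : ∀ Z : D, IsZero Z → Q Z) {X : D} (hX : Q X) (hX1 : Q (X⟦(1 : ℤ)⟧)) :
    clQ Q (X⟦(1 : ℤ)⟧) hX1 = - clQ Q X hX := by
  have hT := rot_of_distTriang _ (contractible_distinguished X)
  have h0 : Q (0 : D) := hQ0 _ (isZero_zero D)
  have h1 := clQ_triangle _ hT hX h0 hX1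
  have h3 : clQ Q (0 : D) h0 = 0 := clQ_of_isZero (isZero_zero D) _
  have h4 : clQ Q X hX + clQ Q (X⟦(1 : ℤ)⟧) hX1 = 0 := by rw [← h3]; exact h1.symm
  exact (neg_eq_of_add_eq_zero_right h4).symm

lemma K0tr_induction {p : KZero.K0tr Q → Prop} (x : KZero.K0tr Q)
    (h0 : p 0) (hg : ∀ X h, p (clQ Q X h)) (hneg : ∀ x, p x → p (-x))
    (hadd : ∀ x y, p x → p y → p (x + y)) : p x := by
  induction x using QuotientAddGroup.induction_on with
  | H z =>
    induction z using FreeAbelianGroup.induction_on with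
    | zero => exact h0
    | of x => exact hg x.1 x.2
    | neg x ih => exact hneg _ ih
    | add x y hx hy => exact hadd _ _ hx hy

lemma K0tr_hom_ext {G : Type*} [AddCommGroup G]
    (f g : KZero.K0tr Q →+ G) (h : ∀ X hX, f (clQ Q X hX) = g (clQ Q X hX)) (x : KZero.K0tr Q) :
    f x = g x := by
  induction x using K0tr_induction with
  | h0 => rw [map_zero, map_zero]
  | hg X hX => exact h X hX
  | hneg x ih => rw [map_neg, map_neg, ih]
  | hadd x y hx hy => rw [map_add, map_add, hx, hy]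

/-- homomorphisms out of `K0tr Q` from functions on objects additive on distinguished triangles -/
noncomputable def K0trLift {G : Type*} [AddCommGroup G] (φ : ∀ X, Q X → G)
    (hφ : ∀ (T : Triangle D) (_ : T ∈ distTriang D) (h₁ : Q T.obj₁) (h₂ : Q T.obj₂)
      (h₃ : Q T.obj₃), φ T.obj₂ h₂ = φ T.obj₁ h₁ + φ T.obj₃ h₃) : KZero.K0tr Q →+ G :=
  QuotientAddGroup.lift (KZero.relTr Q)
    (FreeAbelianGroup.lift (fun X : Subtype Q => φ X.1 X.2)) (by
      rw [KZero.relTr, AddSubgroup.closure_le]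
      rintro x ⟨T, h₁, h₂, h₃, hT, rfl⟩
      simp only [SetLike.mem_coe, AddMonoidHom.mem_ker, map_sub, FreeAbelianGroup.lift_apply_of]
      rw [hφ T hT h₁ h₂ h₃]
      abel)

lemma K0trLift_clQ {G : Type*} [AddCommGroup G] (φ : ∀ X, Q X → G)
    (hφ : ∀ (T : Triangle D) (_ : T ∈ distTriang D) (h₁ : Q T.obj₁) (h₂ : Q T.obj₂)
      (h₃ : Q T.obj₃), φ T.obj₂ h₂ = φ T.obj₁ h₁ + φ T.obj₃ h₃) (X : D) (hX : Q X) :
    K0trLift φ hφ (clQ Q X hX) = φ X hX := by
  simp only [K0trLift, clQ, QuotientAddGroup.lift_mk, FreeAbelianGroup.lift_apply_of]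

end K0Db

end Groth.Agent.Lib.Helper16
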