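import Groth.Agent.Lib.Helper16.K0Db.Euler
import Groth.Agent.Lib.Helper16.K0Db.K0tr

/-!
# The Euler characteristic `K₀(D^b_P(C)) → K₀(P)` and the map `K₀(P) → K₀(D^b_P(C))` (helper16)
-/

set_option autoImplicit false
universe w v u

namespace Groth.Agent.Lib.Helper16

namespace K0Db

open CategoryTheory CategoryTheory.Limits Pretriangulated ResK0 DerivedCategory

variable {C : Type u} [Category.{v} C] [Abelian C] [HasDerivedCategory.{w} C]
  (P : ObjectProperty C)

/-- the objects of `D^b_P(C)` -/
def DbP : ObjectProperty (DerivedCategory C) := fun K : DerivedCategory C =>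
  (∀ i : ℤ, P ((DerivedCategory.homologyFunctor C i).obj K)) ∧
    ∃ a b : ℤ, (DerivedCategory.TStructure.t (C := C)).IsGE K a ∧
      (DerivedCategory.TStructure.t (C := C)).IsLE K b

variable {P} in
lemma DbP.finite {K : DerivedCategory C} (hK : DbP P K) :
    {i : ℤ | ¬ IsZero ((homologyFunctor C i).obj K)}.Finite := by
  obtain ⟨_, a, b, ha, hb⟩ := hK
  refine (Set.finite_Icc a b).subset (fun i hi => ?_)
  rw [Set.mem_Icc]
  by_contra h
  apply hi
  rw [not_and_or, not_le, not_le] at h
  rcases h with h | h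
  · exact K.isZero_of_isGE a i h
  · exact K.isZero_of_isLE b i h

/-- the Euler characteristic of an object -/
noncomputable def chiObj (K : DerivedCategory C) : KZero.K0sub P :=
  altsum (fun i : ℤ => KZero.clSub P ((homologyFunctor C i).obj K))

variable [P.IsClosedUnderIsomorphisms] [P.ContainsZero] [P.IsClosedUnderKernels]

omit [P.IsClosedUnderIsomorphisms] [P.ContainsZero] in
lemma chiObj_triangle (T : Triangle (DerivedCategory C)) (hT : T ∈ distTriang _)
    (h₁ : DbP P T.obj₁) (h₂ : DbP P T.obj₂) (h₃ : DbP P T.obj₃) :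
    chiObj P T.obj₂ = chiObj P T.obj₁ + chiObj P T.obj₃ := by
  unfold chiObj
  exact altsum_les P (fun i => (homologyFunctor C i).obj T.obj₁)
    (fun i => (homologyFunctor C i).obj T.obj₂) (fun i => (homologyFunctor C i).obj T.obj₃)
    h₁.1 h₂.1 h₃.1 h₁.finite h₂.finite h₃.finite
    (fun i => (homologyFunctor C i).map T.mor₁) (fun i => (homologyFunctor C i).map T.mor₂)
    (fun i => HomologySequence.δ T i (i + 1) rfl)
    (fun i => ⟨_, HomologySequence.exact₂ T hT i⟩)
    (fun i => ⟨_, HomologySequence.exact₃ T hT i (i + 1) rfl⟩)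
    (fun i => ⟨_, HomologySequence.exact₁ T hT i (i + 1) rfl⟩)

/-- the Euler characteristic `K₀(D^b_P(C)) → K₀(P)` -/
noncomputable def chi : KZero.K0tr (DbP P) →+ KZero.K0sub P :=
  K0trLift (fun K _ => chiObj P K) (fun T hT h₁ h₂ h₃ => chiObj_triangle P T hT h₁ h₂ h₃)

omit [P.IsClosedUnderIsomorphisms] [P.ContainsZero] in
lemma chi_clQ (K : DerivedCategory C) (hK : DbP P K) : chi P (clQ (DbP P) K hK) = chiObj P K :=
  K0trLift_clQ _ _ K hK

omit [P.IsClosedUnderKernels] in
lemma DbP_single {X : C} (hX : P X) (n : ℤ) : DbP P ((singleFunctor C n).obj X) := by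
  refine ⟨fun i => ?_, n, n, inferInstance, inferInstance⟩
  by_cases hi : i = n
  · subst hi
    exact P.prop_of_iso ((singleFunctorCompHomologyFunctorIso C i).app X).symm hX
  · apply P.prop_of_isZero
    rcases lt_or_gt_of_ne hi with h | h
    · exact ((singleFunctor C n).obj X).isZero_of_isGE n i h
    · exact ((singleFunctor C n).obj X).isZero_of_isLE n i h

omit [P.IsClosedUnderKernels] in
lemma DbP_of_isZero {Z : DerivedCategory C} (hZ : IsZero Z) : DbP P Z := by
  refine ⟨fun i => P.prop_of_isZero ((homologyFunctor C i).map_isZero hZ), 0, 0, ?_, ?_⟩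
  · exact (DerivedCategory.TStructure.t (C := C)).isGE_of_isZero hZ 0
  · exact (DerivedCategory.TStructure.t (C := C)).isLE_of_isZero hZ 0

omit [P.IsClosedUnderKernels] in
lemma chiObj_single {X : C} :
    chiObj P ((singleFunctor C 0).obj X) = KZero.clSub P X := by
  unfold chiObj
  rw [altsum_single]
  · exact clSub_iso P ((singleFunctorCompHomologyFunctorIso C 0).app X)
  · intro i hi
    apply clSub_of_isZero
    rcases lt_or_gt_of_ne hi with h | h
    · exact ((singleFunctor C 0).obj X).isZero_of_isGE 0 i h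
    · exact ((singleFunctor C 0).obj X).isZero_of_isLE 0 i h

omit [P.IsClosedUnderKernels] in
lemma phi_rel {K L A : C} (hs : SES K L A) (hK : P K) (hL : P L) (hA : P A) :
    clQ (DbP P) ((singleFunctor C 0).obj L) (DbP_single P hL 0) =
      clQ (DbP P) ((singleFunctor C 0).obj K) (DbP_single P hK 0) +
        clQ (DbP P) ((singleFunctor C 0).obj A) (DbP_single P hA 0) := by
  obtain ⟨i, p, w, hS⟩ := hs
  exact clQ_triangle hS.singleTriangle hS.singleTriangle_distinguished
    (DbP_single P hK 0) (DbP_single P hL 0) (DbP_single P hA 0)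

omit [P.IsClosedUnderKernels] in
/-- the map `K₀(P) → K₀(D^b_P(C))` induced by `X ↦ X[0]` -/
noncomputable def phi : KZero.K0sub P →+ KZero.K0tr (DbP P) :=
  K0lift (fun X hX => clQ (DbP P) ((singleFunctor C 0).obj X) (DbP_single P hX 0))
    (fun hs hK hL hA => phi_rel P hs hK hL hA)

omit [P.IsClosedUnderKernels] in
lemma phi_clP (X : C) (hX : P X) :
    phi P (clP P X hX) = clQ (DbP P) ((singleFunctor C 0).obj X) (DbP_single P hX 0) :=
  K0lift_clP (fun X hX => clQ (DbP P) ((singleFunctor C 0).obj X) (DbP_single P hX 0))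
    (fun hs hK hL hA => phi_rel P hs hK hL hA) X hX

lemma chi_phi (x : KZero.K0sub P) : chi P (phi P x) = x := by
  refine K0sub_hom_ext ((chi P).comp (phi P)) (AddMonoidHom.id _) (fun X hX => ?_) x
  rw [AddMonoidHom.comp_apply, phi_clP, chi_clQ, chiObj_single, AddMonoidHom.id_apply,
    clSub_eq P hX]

end K0Db

end Groth.Agent.Lib.Helper16
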