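import Groth.Agent.Lib.Helper16.ResK0.OneStep

/-!
# Euler characteristics in `KZero.K0sub P` for a thick `P` (helper16)

Alternating sums of classes along a long exact sequence.
-/

set_option autoImplicit false
universe v u

namespace Groth.Agent.Lib.Helper16

namespace K0Db

open CategoryTheory CategoryTheory.Limits ResK0

section altsum

variable {G : Type*} [AddCommGroup G]

/-- the alternating sum of a finitely supported family indexed by `ℤ` -/
noncomputable def altsum (c : ℤ → G) : G := ∑ᶠ i : ℤ, ((i.negOnePow : ℤˣ) : ℤ) • c i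

lemma support_sign_smul (c : ℤ → G) :
    (Function.support fun i : ℤ => ((i.negOnePow : ℤˣ) : ℤ) • c i) ⊆ Function.support c := by
  intro i hi
  rw [Function.mem_support] at hi ⊢
  intro h
  exact hi (by rw [h, smul_zero])

lemma altsum_add (c c' : ℤ → G) (h : (Function.support c).Finite)
    (h' : (Function.support c').Finite) :
    altsum (fun i => c i + c' i) = altsum c + altsum c' := by
  unfold altsum
  rw [← finsum_add_distrib (h.subset (support_sign_smul c)) (h'.subset (support_sign_smul c'))]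
  refine finsum_congr (fun i => ?_)
  rw [smul_add]

lemma altsum_shift (c : ℤ → G) : altsum (fun i => c (i + 1)) = - altsum c := by
  unfold altsum
  rw [← finsum_comp_equiv (Equiv.addRight (1 : ℤ)) (f := fun i : ℤ => ((i.negOnePow : ℤˣ) : ℤ) • c i),
    ← finsum_neg_distrib]
  refine finsum_congr (fun i => ?_)
  simp only [Equiv.coe_addRight]
  rw [Int.negOnePow_succ]
  simp

lemma altsum_single (c : ℤ → G) (h : ∀ i : ℤ, i ≠ 0 → c i = 0) : altsum c = c 0 := by
  unfold altsum
  rw [finsum_eq_single _ (0 : ℤ) (fun i hi => by rw [h i hi, smul_zero])]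
  simp

lemma altsum_congr {c c' : ℤ → G} (h : ∀ i, c i = c' i) : altsum c = altsum c' := by
  have : c = c' := funext h
  rw [this]

end altsum

variable {C : Type u} [Category.{v} C] [Abelian C] (P : ObjectProperty C)

lemma clSub_eq {X : C} (h : P X) : KZero.clSub P X = clP P X h := by
  unfold KZero.clSub
  rw [dif_pos h]
  rfl

lemma clSub_of_isZero {Z : C} (hZ : IsZero Z) : KZero.clSub P Z = 0 := by
  by_cases h : P Z
  · rw [clSub_eq P h]
    have : Mono (0 : Z ⟶ Z) := hZ.mono _
    have : Epi (0 : Z ⟶ Z) := hZ.epi _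
    have hs : SES Z Z Z := ses_of_lift (0 : Z ⟶ Z) (0 : Z ⟶ Z) (by simp)
      (fun k _ => ⟨k, hZ.eq_of_tgt _ _⟩)
    have := clP_ses hs h h h
    simpa using this
  · unfold KZero.clSub
    rw [dif_neg h]

variable [P.IsClosedUnderIsomorphisms] [P.ContainsZero]

lemma clSub_iso {X Y : C} (e : X ≅ Y) : KZero.clSub P X = KZero.clSub P Y := by
  by_cases h : P X
  · have h' : P Y := P.prop_of_iso e h
    have hz : IsZero (kernel e.hom) := isZero_kernel_of_mono e.hom
    have hk : P (kernel e.hom) := P.prop_of_isZero hz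
    have h1 := clP_ses (ses_kernel e.hom) hk h h'
    rw [← clSub_eq, ← clSub_eq, ← clSub_eq, clSub_of_isZero P hz, zero_add] at h1
    exact h1
  · have h' : ¬ P Y := fun hY => h (P.prop_of_iso e.symm hY)
    unfold KZero.clSub
    rw [dif_neg h, dif_neg h']

variable [P.IsClosedUnderKernels]

omit [P.IsClosedUnderIsomorphisms] [P.ContainsZero] in
/-- for an exact `X₁ ⟶ X₂ ⟶ X₃` with terms in `P`, `[X₁] = [ker f] + [ker g]` -/
lemma clSub_exact (S : ShortComplex C) (hS : S.Exact) (h₁ : P S.X₁) (h₂ : P S.X₂) (h₃ : P S.X₃) :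
    KZero.clSub P S.X₁ = KZero.clSub P (kernel S.f) + KZero.clSub P (kernel S.g) := by
  have hkf : P (kernel S.f) := P.prop_kernel S.f h₁ h₂
  have hkg : P (kernel S.g) := P.prop_kernel S.g h₂ h₃
  have : Epi (kernel.lift S.g S.f S.zero) := S.exact_iff_epi_kernel_lift.1 hS
  have hs : SES (kernel S.f) S.X₁ (kernel S.g) :=
    ses_of_lift (kernel.ι S.f) (kernel.lift S.g S.f S.zero)
      (by rw [← cancel_mono (kernel.ι S.g), Category.assoc, kernel.lift_ι, kernel.condition,
        zero_comp])
      (fun k hk => ⟨kernel.lift S.f k (by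
        have := congrArg (fun t => t ≫ kernel.ι S.g) hk
        simpa using this), kernel.lift_ι _ _ _⟩)
  rw [clSub_eq P h₁, clSub_eq P hkf, clSub_eq P hkg]
  exact clP_ses hs hkf h₁ hkg

omit [P.IsClosedUnderIsomorphisms] [P.ContainsZero] in
/-- additivity of the alternating sum of classes along a long exact sequence -/
lemma altsum_les (x y z : ℤ → C) (hx : ∀ i, P (x i)) (hy : ∀ i, P (y i)) (hz : ∀ i, P (z i))
    (fx : {i | ¬ IsZero (x i)}.Finite) (fy : {i | ¬ IsZero (y i)}.Finite)
    (fz : {i | ¬ IsZero (z i)}.Finite)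
    (α : ∀ i, x i ⟶ y i) (β : ∀ i, y i ⟶ z i) (δ : ∀ i, z i ⟶ x (i + 1))
    (e₁ : ∀ i, ∃ w, (ShortComplex.mk (α i) (β i) w).Exact)
    (e₂ : ∀ i, ∃ w, (ShortComplex.mk (β i) (δ i) w).Exact)
    (e₃ : ∀ i, ∃ w, (ShortComplex.mk (δ i) (α (i + 1)) w).Exact) :
    altsum (fun i => KZero.clSub P (y i)) =
      altsum (fun i => KZero.clSub P (x i)) + altsum (fun i => KZero.clSub P (z i)) := by
  have hsupp : ∀ (t : ℤ → C) (s : ∀ i, C) (ι : ∀ i, s i ⟶ t i) (_ : ∀ i, Mono (ι i)),
      {i | ¬ IsZero (t i)}.Finite → (Function.support fun i => KZero.clSub P (s i)).Finite := by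
    intro t s ι hι ft
    refine ft.subset (fun i hi => ?_)
    rw [Function.mem_support] at hi
    intro h0
    apply hi
    apply clSub_of_isZero
    have := hι i
    exact IsZero.of_mono (ι i) h0
  have fa := hsupp x (fun i => kernel (α i)) (fun i => kernel.ι (α i)) (fun i => inferInstance) fx
  have fb := hsupp y (fun i => kernel (β i)) (fun i => kernel.ι (β i)) (fun i => inferInstance) fy
  have fd := hsupp z (fun i => kernel (δ i)) (fun i => kernel.ι (δ i)) (fun i => inferInstance) fz
  have fa' : (Function.support fun i => KZero.clSub P (kernel (α (i + 1)))).Finite := by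
    have := fa.preimage (f := fun i : ℤ => i + 1) (fun a _ b _ hab => by simpa using hab)
    exact this
  have ex : ∀ i, KZero.clSub P (x i) =
      KZero.clSub P (kernel (α i)) + KZero.clSub P (kernel (β i)) := fun i => by
    obtain ⟨w, h⟩ := e₁ i
    exact clSub_exact P _ h (hx i) (hy i) (hz i)
  have ey : ∀ i, KZero.clSub P (y i) =
      KZero.clSub P (kernel (β i)) + KZero.clSub P (kernel (δ i)) := fun i => by
    obtain ⟨w, h⟩ := e₂ i
    exact clSub_exact P _ h (hy i) (hz i) (hx (i + 1))
  have ez : ∀ i, KZero.clSub P (z i) =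
      KZero.clSub P (kernel (δ i)) + KZero.clSub P (kernel (α (i + 1))) := fun i => by
    obtain ⟨w, h⟩ := e₃ i
    exact clSub_exact P _ h (hz i) (hx (i + 1)) (hy (i + 1))
  rw [altsum_congr ex, altsum_congr ey, altsum_congr ez, altsum_add _ _ fa fb,
    altsum_add _ _ fb fd, altsum_add _ _ fd fa',
    altsum_shift (fun i => KZero.clSub P (kernel (α i)))]
  abel

end K0Db

end Groth.Agent.Lib.Helper16
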