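import Groth.Agent.Lib.Helper16.K0Db.Chi

/-!
# `K₀(P) → K₀(D^b_P(C))` is bijective (helper16)
-/

set_option autoImplicit false
universe w v u

namespace Groth.Agent.Lib.Helper16

namespace K0Db

open CategoryTheory CategoryTheory.Limits Pretriangulated ResK0 DerivedCategory

variable {C : Type u} [Category.{v} C] [Abelian C] [HasDerivedCategory.{w} C]

section Trunc

variable (T : Triangle (DerivedCategory C)) (hT : T ∈ distTriang _) (n : ℤ)

include hT

lemma isIso_homologyMap_mor₁ [T.obj₃.IsGE (n + 1)] (i : ℤ) (hi : i ≤ n) :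
    IsIso ((homologyFunctor C i).map T.mor₁) := by
  have h1 : Mono ((homologyFunctor C i).map T.mor₁) := by
    rw [HomologySequence.mono_homologyMap_mor₁_iff T hT (i - 1) i (by omega)]
    exact (T.obj₃.isZero_of_isGE (n + 1) (i - 1) (by omega)).eq_of_src _ _
  have h2 : Epi ((homologyFunctor C i).map T.mor₁) := by
    rw [HomologySequence.epi_homologyMap_mor₁_iff T hT i]
    exact (T.obj₃.isZero_of_isGE (n + 1) i (by omega)).eq_of_tgt _ _
  exact isIso_of_mono_of_epi _

lemma isIso_homologyMap_mor₂ [T.obj₁.IsLE n] (i : ℤ) (hi : n < i) :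
    IsIso ((homologyFunctor C i).map T.mor₂) := by
  have h1 : Mono ((homologyFunctor C i).map T.mor₂) := by
    rw [HomologySequence.mono_homologyMap_mor₂_iff T hT i]
    exact (T.obj₁.isZero_of_isLE n i hi).eq_of_src _ _
  have h2 : Epi ((homologyFunctor C i).map T.mor₂) := by
    rw [HomologySequence.epi_homologyMap_mor₂_iff T hT i (i + 1) rfl]
    exact (T.obj₁.isZero_of_isLE n (i + 1) (by omega)).eq_of_tgt _ _
  exact isIso_of_mono_of_epi _

variable (P : ObjectProperty C) [P.IsClosedUnderIsomorphisms] [P.ContainsZero]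

lemma prop_homology_obj₁ [T.obj₁.IsLE n] [T.obj₃.IsGE (n + 1)]
    (h : ∀ i : ℤ, P ((homologyFunctor C i).obj T.obj₂)) (i : ℤ) :
    P ((homologyFunctor C i).obj T.obj₁) := by
  by_cases hi : i ≤ n
  · have := isIso_homologyMap_mor₁ T hT n i hi
    exact P.prop_of_iso (asIso ((homologyFunctor C i).map T.mor₁)).symm (h i)
  · exact P.prop_of_isZero (T.obj₁.isZero_of_isLE n i (by omega))

lemma prop_homology_obj₃ [T.obj₁.IsLE n] [T.obj₃.IsGE (n + 1)]
    (h : ∀ i : ℤ, P ((homologyFunctor C i).obj T.obj₂)) (i : ℤ) :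
    P ((homologyFunctor C i).obj T.obj₃) := by
  by_cases hi : n < i
  · have := isIso_homologyMap_mor₂ T hT n i hi
    exact P.prop_of_iso (asIso ((homologyFunctor C i).map T.mor₂)) (h i)
  · exact P.prop_of_isZero (T.obj₃.isZero_of_isGE (n + 1) i (by omega))

omit [P.IsClosedUnderIsomorphisms] [P.ContainsZero] in
lemma isGE_obj₁ [T.obj₁.IsLE n] [T.obj₃.IsGE (n + 1)] (a : ℤ) [T.obj₂.IsGE a] :
    T.obj₁.IsGE a := by
  rw [isGE_iff]
  intro i hi
  by_cases hin : i ≤ n
  · have := isIso_homologyMap_mor₁ T hT n i hin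
    exact (T.obj₂.isZero_of_isGE a i hi).of_iso (asIso ((homologyFunctor C i).map T.mor₁))
  · exact T.obj₁.isZero_of_isLE n i (by omega)

omit [P.IsClosedUnderIsomorphisms] [P.ContainsZero] in
lemma isLE_obj₃ [T.obj₁.IsLE n] [T.obj₃.IsGE (n + 1)] (b : ℤ) [T.obj₂.IsLE b] :
    T.obj₃.IsLE b := by
  rw [isLE_iff]
  intro i hi
  by_cases hin : n < i
  · have := isIso_homologyMap_mor₂ T hT n i hin
    exact (T.obj₂.isZero_of_isLE b i hi).of_iso (asIso ((homologyFunctor C i).map T.mor₂)).symm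
  · exact T.obj₃.isZero_of_isGE (n + 1) i (by omega)

end Trunc

variable (P : ObjectProperty C) [P.IsClosedUnderIsomorphisms] [P.ContainsZero]

omit [P.ContainsZero] in
lemma DbP_of_iso {K L : DerivedCategory C} (e : K ≅ L) (hK : DbP P K) : DbP P L := by
  obtain ⟨h, a, b, ha, hb⟩ := hK
  exact ⟨fun i => P.prop_of_iso ((homologyFunctor C i).mapIso e) (h i), a, b,
    (DerivedCategory.TStructure.t (C := C)).isGE_of_iso e a,
    (DerivedCategory.TStructure.t (C := C)).isLE_of_iso e b⟩

lemma clQ_single_mem {M : C} (hM : P M) (n : ℤ) :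
    clQ (DbP P) ((singleFunctor C n).obj M) (DbP_single P hM n) ∈ (phi P).range := by
  have step : ∀ n : ℤ,
      clQ (DbP P) ((singleFunctor C n).obj M) (DbP_single P hM n) =
        - clQ (DbP P) ((singleFunctor C (n + 1)).obj M) (DbP_single P hM (n + 1)) := by
    intro n
    have e : ((singleFunctor C (n + 1)).obj M)⟦(1 : ℤ)⟧ ≅ (singleFunctor C n).obj M :=
      ((singleFunctors C).shiftIso 1 n (n + 1) (by omega)).app M
    have h1 : DbP P (((singleFunctor C (n + 1)).obj M)⟦(1 : ℤ)⟧) :=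
      DbP_of_iso P e.symm (DbP_single P hM n)
    rw [← clQ_shift (fun Z hZ => DbP_of_isZero P hZ) (DbP_single P hM (n + 1)) h1]
    exact clQ_iso (fun Z hZ => DbP_of_isZero P hZ) e.symm _ _
  induction n using Int.induction_on with
  | zero => exact ⟨clP P M hM, phi_clP P M hM⟩
  | succ i ih =>
    have := step (i : ℤ)
    rw [eq_neg_iff_add_eq_zero, add_comm, ← eq_neg_iff_add_eq_zero] at this
    rw [this]
    exact neg_mem ih
  | pred i ih =>
    have := step (-(i : ℤ) - 1)
    rw [this]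
    have h2 : (-(i : ℤ) - 1 + 1) = -(i : ℤ) := by omega
    rw [← h2] at ih
    exact neg_mem ih

lemma clQ_mem_of_isGE_of_isLE (K : DerivedCategory C) (hK : DbP P K) (a : ℤ) [K.IsGE a]
    [K.IsLE a] : clQ (DbP P) K hK ∈ (phi P).range := by
  obtain ⟨M, ⟨e⟩⟩ := exists_iso_singleFunctor_obj_of_isGE_of_isLE K a
  have hM : P M := P.prop_of_iso ((homologyFunctor C a).mapIso e ≪≫
    (singleFunctorCompHomologyFunctorIso C a).app M) (hK.1 a)
  rw [clQ_iso (fun Z hZ => DbP_of_isZero P hZ) e hK (DbP_single P hM a)]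
  exact clQ_single_mem P hM a

lemma clQ_mem_aux (d : ℕ) : ∀ (K : DerivedCategory C) (hK : DbP P K) (a : ℤ), K.IsGE a →
    K.IsLE (a + d) → clQ (DbP P) K hK ∈ (phi P).range := by
  induction d with
  | zero =>
    intro K hK a h1 h2
    have : K.IsLE a := by simpa using h2
    exact clQ_mem_of_isGE_of_isLE P K hK a
  | succ d ih =>
    intro K hK a h1 h2
    obtain ⟨X, Y, hX, hY, f, g, h, hT⟩ :=
      (DerivedCategory.TStructure.t (C := C)).exists_triangle K (a + d) (a + d + 1) rfl
    have iX : (Triangle.mk f g h).obj₁.IsLE (a + d) := ⟨hX⟩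
    have iY : (Triangle.mk f g h).obj₃.IsGE (a + d + 1) := ⟨hY⟩
    have iK1 : (Triangle.mk f g h).obj₂.IsGE a := h1
    have iK2 : (Triangle.mk f g h).obj₂.IsLE (a + d + 1) := by
      have : (a + ((d + 1 : ℕ) : ℤ)) = a + d + 1 := by push_cast; ring
      rw [← this]; exact h2
    have hXGE : (Triangle.mk f g h).obj₁.IsGE a := isGE_obj₁ _ hT (a + d) a
    have hYLE : (Triangle.mk f g h).obj₃.IsLE (a + d + 1) := isLE_obj₃ _ hT (a + d) (a + d + 1)
    have hXP : DbP P X := ⟨prop_homology_obj₁ _ hT (a + d) P hK.1, a, a + d, hXGE, iX⟩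
    have hYP : DbP P Y := ⟨prop_homology_obj₃ _ hT (a + d) P hK.1, a + d + 1, a + d + 1, iY, hYLE⟩
    have key := clQ_triangle (Triangle.mk f g h) hT hXP hK hYP
    have m1 : clQ (DbP P) X hXP ∈ (phi P).range := ih X hXP a hXGE iX
    have m2 : clQ (DbP P) Y hYP ∈ (phi P).range :=
      @clQ_mem_of_isGE_of_isLE _ _ _ _ P _ _ Y hYP (a + d + 1) iY hYLE
    change clQ (DbP P) K hK = _ at key
    rw [key]
    exact add_mem m1 m2

lemma clQ_mem (K : DerivedCategory C) (hK : DbP P K) : clQ (DbP P) K hK ∈ (phi P).range := by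
  obtain ⟨a, b, ha, hb⟩ := hK.2
  by_cases hab : a ≤ b
  · obtain ⟨d, hd⟩ := Int.eq_ofNat_of_zero_le (sub_nonneg.2 hab)
    have hb' : K.IsLE (a + d) := by
      have : a + (d : ℤ) = b := by omega
      rw [this]; exact hb
    exact clQ_mem_aux P d K hK a ha hb'
  · have hb' : K.IsLE (a + (0 : ℕ)) :=
      (DerivedCategory.TStructure.t (C := C)).isLE_of_le K b _ (by push_cast; omega)
    exact clQ_mem_aux P 0 K hK a ha hb'

variable [P.IsClosedUnderKernels]

theorem phi_bijective : Function.Bijective (phi P) := by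
  constructor
  · exact Function.LeftInverse.injective (g := chi P) (chi_phi P)
  · intro y
    rw [← AddMonoidHom.mem_range]
    induction y using K0tr_induction with
    | h0 => exact zero_mem _
    | hg K hK => exact clQ_mem P K hK
    | hneg x ih => exact neg_mem ih
    | hadd x y hx hy => exact add_mem hx hy

/-- the statement of the theorem, with `DbP` folded -/
theorem main : ∃ φ : KZero.K0sub P ≃+ KZero.K0tr (DbP P),
    ∀ X : C, P X → φ (KZero.clSub P X) = KZero.clTr (DbP P) ((singleFunctor C 0).obj X) := by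
  refine ⟨AddEquiv.ofBijective (phi P) (phi_bijective P), fun X hX => ?_⟩
  rw [AddEquiv.ofBijective_apply, clSub_eq P hX, phi_clP, clTr_eq (DbP P) (DbP_single P hX 0)]

end K0Db

end Groth.Agent.Lib.Helper16
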