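import Groth.Agent.Lib.Helper16.K0Db.Surj

/-!
# `K₀(A) ≃ K₀(D^b(A))` (helper16): the case `P = ⊤`
-/

set_option autoImplicit false
universe w v u

namespace Groth.Agent.Lib.Helper16

namespace K0Db

open CategoryTheory CategoryTheory.Limits Pretriangulated ResK0 DerivedCategory

variable (A : Type u) [Category.{v} A] [Abelian A]

lemma cl_shortExact {S : ShortComplex A} (hS : S.ShortExact) :
    (KZero.cl S.X₂ : KZero.K0 A) = KZero.cl S.X₁ + KZero.cl S.X₃ := by
  have h : FreeAbelianGroup.of S.X₂ - FreeAbelianGroup.of S.X₁ - FreeAbelianGroup.of S.X₃ ∈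
      KZero.relAb A := AddSubgroup.subset_closure ⟨S, hS, rfl⟩
  have h2 := (QuotientAddGroup.eq_zero_iff _).mpr h
  rw [QuotientAddGroup.mk_sub, QuotientAddGroup.mk_sub, sub_sub, sub_eq_zero] at h2
  exact h2

/-- `K₀(A) → K₀sub ⊤` -/
noncomputable def toTop : KZero.K0 A →+ KZero.K0sub (⊤ : ObjectProperty A) :=
  QuotientAddGroup.lift (KZero.relAb A)
    (FreeAbelianGroup.lift (fun X : A => clP (⊤ : ObjectProperty A) X trivial)) (by
      rw [KZero.relAb, AddSubgroup.closure_le]
      rintro x ⟨S, hS, rfl⟩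
      simp only [SetLike.mem_coe, AddMonoidHom.mem_ker, map_sub, FreeAbelianGroup.lift_apply_of]
      rw [clP_ses (SES.of_shortExact hS) trivial trivial trivial]
      abel)

lemma toTop_cl (X : A) : toTop A (KZero.cl X) = clP (⊤ : ObjectProperty A) X trivial := by
  simp only [toTop, KZero.cl, QuotientAddGroup.lift_mk, FreeAbelianGroup.lift_apply_of]

lemma ofTop_rel {K L B : A} (hs : SES K L B) :
    (KZero.cl L : KZero.K0 A) = KZero.cl K + KZero.cl B := by
  obtain ⟨i, p, w, hS⟩ := hs
  exact cl_shortExact A hS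

/-- `K₀sub ⊤ → K₀(A)` -/
noncomputable def ofTop : KZero.K0sub (⊤ : ObjectProperty A) →+ KZero.K0 A :=
  K0lift (fun X _ => KZero.cl X) (fun hs _ _ _ => ofTop_rel A hs)

lemma ofTop_clP (X : A) (h : (⊤ : ObjectProperty A) X) : ofTop A (clP _ X h) = KZero.cl X :=
  K0lift_clP (fun X _ => (KZero.cl X : KZero.K0 A)) (fun hs _ _ _ => ofTop_rel A hs) X h

/-- `K₀(A) ≃ K₀sub ⊤` -/
noncomputable def topEquiv : KZero.K0 A ≃+ KZero.K0sub (⊤ : ObjectProperty A) :=
  { toTop A with
    invFun := ofTop A
    left_inv := by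
      intro x
      induction x using QuotientAddGroup.induction_on with
      | H z =>
        induction z using FreeAbelianGroup.induction_on with
        | zero => simp
        | of X =>
          change ofTop A (toTop A (KZero.cl X)) = KZero.cl X
          rw [toTop_cl, ofTop_clP]
        | neg X ih =>
          change ofTop A (toTop A (KZero.cl X)) = KZero.cl X at ih
          change ofTop A (toTop A (-KZero.cl X)) = -KZero.cl X
          rw [map_neg, map_neg, ih]
        | add x y hx hy =>
          change ofTop A (toTop A (QuotientAddGroup.mk x)) = QuotientAddGroup.mk x at hx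
          change ofTop A (toTop A (QuotientAddGroup.mk y)) = QuotientAddGroup.mk y at hy
          change ofTop A (toTop A (QuotientAddGroup.mk x + QuotientAddGroup.mk y)) =
            QuotientAddGroup.mk x + QuotientAddGroup.mk y
          rw [map_add, map_add, hx, hy]
    right_inv := by
      intro y
      refine K0sub_hom_ext ((toTop A).comp (ofTop A)) (AddMonoidHom.id _) (fun X hX => ?_) y
      rw [AddMonoidHom.comp_apply, ofTop_clP, toTop_cl, AddMonoidHom.id_apply] }

lemma topEquiv_cl (X : A) : topEquiv A (KZero.cl X) = clP (⊤ : ObjectProperty A) X trivial :=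
  toTop_cl A X

variable [HasDerivedCategory.{w} A]

lemma DbP_top : DbP (⊤ : ObjectProperty A) =
    (fun X : DerivedCategory A => ∃ a b : ℤ, X.IsGE a ∧ X.IsLE b) := by
  funext X
  apply propext
  constructor
  · rintro ⟨_, h⟩
    exact h
  · intro h
    exact ⟨fun _ => trivial, h⟩

theorem main_top : ∃ φ : KZero.K0 A ≃+
      KZero.K0tr (fun X : DerivedCategory A => ∃ a b : ℤ, X.IsGE a ∧ X.IsLE b),
    ∀ X : A, φ (KZero.cl X) =
      KZero.clTr (fun X : DerivedCategory A => ∃ a b : ℤ, X.IsGE a ∧ X.IsLE b)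
        ((DerivedCategory.singleFunctor A 0).obj X) := by
  have key : ∀ Q' : ObjectProperty (DerivedCategory A), DbP (⊤ : ObjectProperty A) = Q' →
      ∃ φ : KZero.K0sub (⊤ : ObjectProperty A) ≃+ KZero.K0tr Q',
        ∀ X : A, (⊤ : ObjectProperty A) X → φ (KZero.clSub _ X) =
          KZero.clTr Q' ((DerivedCategory.singleFunctor A 0).obj X) := by
    rintro _ rfl
    exact main (⊤ : ObjectProperty A)
  obtain ⟨φ, hφ⟩ := key _ (DbP_top A)
  refine ⟨(topEquiv A).trans φ, fun X => ?_⟩
  rw [AddEquiv.trans_apply, topEquiv_cl, ← clSub_eq _ (trivial : (⊤ : ObjectProperty A) X)]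
  exact hφ X trivial

end K0Db

end Groth.Agent.Lib.Helper16
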